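import Cfsg.Agent.H378.RegTw
import Cfsg.Agent.H710.LtwoRgd
import Cfsg.Agent.H414.Tw.Abs

/-!
# Twisted root subgroups (helper414, S3480, S3481)

`Y = D.group k`, `k` algebraically closed, locally finite of characteristic `p`, `σ` a frame automorphism (`IsFrob p e σ`,
`Fr … σ g`), `q = p ^ e`, `a` a root, `O = {g^i a}` with `g^m a = a`, any two members of `O` commute (`Orb`).
`e0 : G0 → Y^σ` with `y ^ d ∈ range` for `y ∈ Y^σ`, `p ∤ d`.

* `frame` : `U = e0⁻¹ ⟨X b : b ∈ O⟩` is a nontrivial `p`-subgroup of `G0`; the elements `x` with `e0 x ∈ TT` normalise `U`,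
  and `x ^ i` centralises no nontrivial element of `U` if `χ_a(e0 x) ^ i ≠ 1`.
-/

set_option autoImplicit false
set_option linter.unusedSectionVars false

namespace Cfsg.Agent.H414.Tw

open CoxeterSystem Subgroup Cfsg Cfsg.Lie Cfsg.Lie.ChevalleyDatum
open Cfsg.Agent.ChevalleyStructure Cfsg.Agent.ChevalleyStructure.Elts Cfsg.Agent.ChevalleyStructure.CoxeterGeom
  Cfsg.Agent.ChevalleyStructure.CoxeterGeomTypes Cfsg.Agent.ChevalleyStructure.NPerm
open Cfsg.Agent.Tits.Roots Cfsg.Agent.Tits.Core Cfsg.Agent.Nodes.Reps Cfsg.Agent.Nodes.BNOf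
  Cfsg.Agent.Nodes.RGDChev Cfsg.Agent.Nodes.Bruhat
open Cfsg.Agent.KFacts.RgdField Cfsg.Agent.KFacts.RgdChevCoord Cfsg.Agent.BpExc Cfsg.Agent.BpExc.TorCent
  Cfsg.Agent.BpExc.TorChev Cfsg.Agent.BpExc.Tow Cfsg.Agent.BpExc.TowChev Cfsg.Agent.BpExc.Fr Cfsg.Agent.BpExc.Pair
  Cfsg.Agent.BpExc.LangFr
open Cfsg.Agent.H378.TorDual Cfsg.Agent.H378.TorChar Cfsg.Agent.H378.TorFin Cfsg.Agent.H378.LatRoot
  Cfsg.Agent.H378.LatCyc Cfsg.Agent.H378.Regular Cfsg.Agent.H378.RegTw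
open Cfsg.Agent.H129.TorusChar hiding InvC
open Cfsg.Agent.BpExc.FamExt (InvC)

universe u v

section Lie

variable {D : ChevalleyDatum} {l : ℕ} {M : CoxeterMatrix (Fin l)} (hp : IsType D l M) {k : Type u} [Field k]
  {W : Type*} [Group W] (cs : CoxeterSystem M W) [IsAlgClosed k] (hk : LocFin k) {p e : ℕ} [Fact p.Prime] [CharP k p]

/-- the character on a root -/
theorem ch_eq_cX (hk : LocFin k) (p : ℕ) [Fact p.Prime] [CharP k p] {t : ↥(D.group k)} (ht : t ∈ TT D k)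
    {a : Fin l → ℤ} (ha : IsRoot cs hp.isCartan a) : ch hp a t = cX hp t a := by
  rw [← tchar_eq_cX hp ht a, tchar_apply hp cs hk p ⟨t, ht⟩ ha]

theorem cX_pow {t : ↥(D.group k)} (ht : t ∈ TT D k) (n : ℕ) (x : Fin l → ℤ) : cX hp (t ^ n) x = cX hp t x ^ n := by
  have h1 : (⟨t ^ n, pow_mem ht n⟩ : ↥(TT D k)) = ⟨t, ht⟩ ^ n := rfl
  rw [← tchar_eq_cX hp (pow_mem ht n) x, ← tchar_eq_cX hp ht x, h1, map_pow, MonoidHom.pow_apply,
    Units.val_pow_eq_pow_val]

theorem eq_one_of_cX {t : ↥(D.group k)} (ht : t ∈ TT D k) (h : ∀ x, cX hp t x = 1) : t = 1 := by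
  have h1 : (⟨t, ht⟩ : ↥(TT D k)) = 1 := by
    apply tchar_injective hp
    refine MonoidHom.ext fun x => Units.ext ?_
    have h2 := tchar_eq_cX hp ht (Multiplicative.toAdd x)
    rw [h] at h2
    rw [map_one, MonoidHom.one_apply, Units.val_one]
    exact h2
  exact congrArg Subtype.val h1

theorem eq_one_of_pow_p (p : ℕ) [Fact p.Prime] [CharP k p] {c : k} {j : ℕ} (h : c ^ p ^ j = 1) : c = 1 := by
  have h1 : (c - 1) ^ p ^ j = 0 := by
    rw [sub_pow_char_pow, h, one_pow, sub_self]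
  exact sub_eq_zero.1 (pow_eq_zero_iff (pow_ne_zero _ (Fact.out : p.Prime).ne_zero) |>.1 h1)

include hp in
/-- elements of the torus of finite order have order prime to `p` -/
theorem exists_coprime_pow (p : ℕ) [Fact p.Prime] [CharP k p] {t : ↥(D.group k)} (ht : t ∈ TT D k) {N : ℕ}
    (hN : 0 < N) (h : t ^ N = 1) : ∃ N', 0 < N' ∧ N'.Coprime p ∧ t ^ N' = 1 := by
  have hpp : p.Prime := Fact.out
  obtain ⟨j, N', hN', e⟩ := Nat.exists_eq_pow_mul_and_not_dvd hN.ne' p hpp.ne_one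
  refine ⟨N', ?_, ((Nat.Prime.coprime_iff_not_dvd hpp).2 hN').symm, ?_⟩
  · rcases Nat.eq_zero_or_pos N' with h0 | h0
    · exact absurd (h0 ▸ dvd_zero p) hN'
    · exact h0
  · refine eq_one_of_cX hp (pow_mem ht _) fun x => eq_one_of_pow_p p (j := j) ?_
    have h1 : (t ^ N') ^ p ^ j = 1 := by rw [← pow_mul, mul_comm, ← e, h]
    rw [← cX_pow hp (pow_mem ht _), h1]
    have h3 := cX_pow hp (one_mem (TT D k)) 0 x
    rw [pow_zero, pow_zero] at h3
    exact h3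

include hk in
/-- conjugation by an element of the torus on a root group -/
theorem conj_X (p : ℕ) [Fact p.Prime] [CharP k p] {t : ↥(D.group k)} (ht : t ∈ TT D k) {a : Fin l → ℤ}
    (ha : IsRoot cs hp.isCartan a) (s : k) : t * xc hp a s * t⁻¹ = xc hp a (cX hp t a * s) := by
  have h1 := ((coordsL hp cs hk p).coord a ha).act t ht s
  rw [h1, ch_eq_cX hp cs hk p ht ha]

include hk in
theorem mem_XX (p : ℕ) [Fact p.Prime] [CharP k p] {a : Fin l → ℤ} (ha : IsRoot cs hp.isCartan a)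
    {y : ↥(D.group k)} : y ∈ XX D l k a ↔ ∃ s, xc hp a s = y :=
  ((coordsL hp cs hk p).coord a ha).mem y

include hk in
theorem xc_add (p : ℕ) [Fact p.Prime] [CharP k p] {a : Fin l → ℤ} (ha : IsRoot cs hp.isCartan a) (s s' : k) :
    xc hp a (s + s') = xc hp a s * xc hp a s' :=
  ((coordsL hp cs hk p).coord a ha).add s s'

include hk in
theorem xc_zero (p : ℕ) [Fact p.Prime] [CharP k p] {a : Fin l → ℤ} (ha : IsRoot cs hp.isCartan a) :
    xc hp a (0 : k) = 1 := by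
  have h := xc_add hp cs hk p ha 0 0
  rw [add_zero] at h
  exact mul_right_cancel (h.symm.trans (one_mul _).symm)

include hk in
theorem xc_pow (p : ℕ) [Fact p.Prime] [CharP k p] {a : Fin l → ℤ} (ha : IsRoot cs hp.isCartan a) (s : k) (n : ℕ) :
    xc hp a s ^ n = xc hp a (n * s) := by
  induction n with
  | zero => rw [pow_zero, Nat.cast_zero, zero_mul, xc_zero hp cs hk p ha]
  | succ n ih =>
    rw [pow_succ, ih, ← xc_add hp cs hk p ha]
    congr 1
    push_cast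
    ring

include hk in
theorem X_pow_p (p : ℕ) [Fact p.Prime] [CharP k p] {a : Fin l → ℤ} (ha : IsRoot cs hp.isCartan a)
    {y : ↥(D.group k)} (hy : y ∈ XX D l k a) : y ^ p = 1 := by
  obtain ⟨s, rfl⟩ := (mem_XX hp cs hk p ha).1 hy
  rw [xc_pow hp cs hk p ha, CharP.cast_eq_zero, zero_mul, xc_zero hp cs hk p ha]

include hk in
theorem conj_X_mem (p : ℕ) [Fact p.Prime] [CharP k p] {t : ↥(D.group k)} (ht : t ∈ TT D k) {a : Fin l → ℤ}
    (ha : IsRoot cs hp.isCartan a) {y : ↥(D.group k)} (hy : y ∈ XX D l k a) : t * y * t⁻¹ ∈ XX D l k a := by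
  obtain ⟨s, rfl⟩ := (mem_XX hp cs hk p ha).1 hy
  rw [conj_X hp cs hk p ht ha]
  exact (mem_XX hp cs hk p ha).2 ⟨_, rfl⟩

include hk in
theorem nm_xc (p : ℕ) [Fact p.Prime] [CharP k p] {t : ↥(D.group k)} (ht : t ∈ TT D k) {a : Fin l → ℤ}
    (ha : IsRoot cs hp.isCartan a) (s : k) (n : ℕ) :
    nm t (xc hp a s) n = xc hp a ((∑ j ∈ Finset.range n, cX hp t a ^ j) * s) := by
  induction n with
  | zero => rw [nm_zero, Finset.range_zero, Finset.sum_empty, zero_mul, xc_zero hp cs hk p ha]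
  | succ n ih =>
    rw [nm_succ, ih, conj_X hp cs hk p (pow_mem ht n) ha, cX_pow hp ht, ← xc_add hp cs hk p ha,
      Finset.sum_range_succ, add_mul]

include hk in
theorem nm_X_eq_one (p : ℕ) [Fact p.Prime] [CharP k p] {t : ↥(D.group k)} (ht : t ∈ TT D k) {a : Fin l → ℤ}
    (ha : IsRoot cs hp.isCartan a) {N : ℕ} (hN : t ^ N = 1) (h1 : cX hp t a ≠ 1) {y : ↥(D.group k)}
    (hy : y ∈ XX D l k a) : nm t y N = 1 := by
  obtain ⟨s, rfl⟩ := (mem_XX hp cs hk p ha).1 hy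
  rw [nm_xc hp cs hk p ht ha]
  have h2 : cX hp t a ^ N = 1 := by
    rw [← cX_pow hp ht, hN]
    have h3 := cX_pow hp (one_mem (TT D k)) 0 a
    rw [pow_zero, pow_zero] at h3
    exact h3
  have h3 : ∑ j ∈ Finset.range N, cX hp t a ^ j = 0 := by
    have h4 := geom_sum_mul (cX hp t a) N
    rw [h2, sub_self] at h4
    exact (mul_eq_zero.1 h4).resolve_right (sub_ne_zero.2 h1)
  rw [h3, zero_mul, xc_zero hp cs hk p ha]

include hk in
theorem nm_X_pow (p : ℕ) [Fact p.Prime] [CharP k p] {t : ↥(D.group k)} (ht : t ∈ TT D k) {a : Fin l → ℤ}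
    (ha : IsRoot cs hp.isCartan a) (N : ℕ) (h1 : cX hp t a = 1) {y : ↥(D.group k)}
    (hy : y ∈ XX D l k a) : nm t y N = y ^ N := by
  obtain ⟨s, rfl⟩ := (mem_XX hp cs hk p ha).1 hy
  apply nm_comm
  have h2 := conj_X hp cs hk p ht ha s
  rw [h1, one_mul] at h2
  exact mul_inv_eq_iff_eq_mul.1 h2

/-! ### orbits of commuting roots -/

/-- `a` has period `m` under `g` and the root groups of the orbit commute. -/
structure Orb {l : ℕ} {M : CoxeterMatrix (Fin l)} {W : Type*} [Group W] (cs : CoxeterSystem M W)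
    {A : Fin l → Fin l → ℤ} (h : IsCartan M A) (D : ChevalleyDatum) (k : Type u) [Field k]
    (g : (Fin l → ℤ) ≃+ (Fin l → ℤ)) (a : Fin l → ℤ) (m : ℕ) : Prop where
  pos : 0 < m
  root : IsRoot cs h a
  per : g^[m] a = a
  comm : ∀ i < m, ∀ j < m, ∀ u ∈ XX D l k (g^[i] a), ∀ v ∈ XX D l k (g^[j] a), u * v = v * u

/-! ### the orbit group -/

/-- the join of the root groups of the orbit -/
def EE (D : ChevalleyDatum) (l : ℕ) (k : Type u) [Field k] (g : (Fin l → ℤ) ≃+ (Fin l → ℤ)) (a : Fin l → ℤ) :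
    Subgroup ↥(D.group k) := ⨆ i : ℕ, XX D l k (g^[i] a)

variable {σ : MulAut ↥(D.group k)} {g : (Fin l → ℤ) ≃+ (Fin l → ℤ)} {a : Fin l → ℤ} {m : ℕ}

theorem root_iter (F : Fr cs hp.isCartan (TT D k) (XX D l k) σ g) (ha : IsRoot cs hp.isCartan a) (i : ℕ) :
    IsRoot cs hp.isCartan (g^[i] a) := by
  induction i with
  | zero => exact ha
  | succ i ih => rw [Function.iterate_succ_apply']; exact (F.root _).2 ih

theorem iter_mod (O : Orb cs hp.isCartan D k g a m) (i : ℕ) : g^[i % m] a = g^[i] a :=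
  Function.IsPeriodicPt.iterate_mod_apply (f := g) (show Function.IsPeriodicPt g m a from O.per) i

theorem X_comm (O : Orb cs hp.isCartan D k g a m) (i j : ℕ) :
    ∀ u ∈ XX D l k (g^[i] a), ∀ v ∈ XX D l k (g^[j] a), u * v = v * u := by
  have h1 := O.comm (i % m) (Nat.mod_lt _ O.pos) (j % m) (Nat.mod_lt _ O.pos)
  rwa [iter_mod hp cs O, iter_mod hp cs O] at h1

theorem EE_comm (O : Orb cs hp.isCartan D k g a m) : ∀ u ∈ EE D l k g a, ∀ v ∈ EE D l k g a, u * v = v * u :=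
  comm_sup (X_comm hp cs O)

include hk in
theorem EE_pow (p : ℕ) [Fact p.Prime] [CharP k p] (F : Fr cs hp.isCartan (TT D k) (XX D l k) σ g)
    (O : Orb cs hp.isCartan D k g a m) : ∀ u ∈ EE D l k g a, u ^ p = 1 :=
  pow_sup (X_comm hp cs O) fun i _ hu => X_pow_p hp cs hk p (root_iter hp cs F O.root i) hu

include hk in
theorem EE_conj (p : ℕ) [Fact p.Prime] [CharP k p] (F : Fr cs hp.isCartan (TT D k) (XX D l k) σ g)
    (ha : IsRoot cs hp.isCartan a) {t : ↥(D.group k)} (ht : t ∈ TT D k) :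
    ∀ u ∈ EE D l k g a, t * u * t⁻¹ ∈ EE D l k g a := by
  have h1 : EE D l k g a ≤ (EE D l k g a).comap (MulAut.conj t).toMonoidHom := by
    refine iSup_le fun i u hu => ?_
    show t * u * t⁻¹ ∈ EE D l k g a
    exact Subgroup.mem_iSup_of_mem i (conj_X_mem hp cs hk p ht (root_iter hp cs F ha i) hu)
  exact fun u hu => h1 hu

theorem pow_mem_X (F : Fr cs hp.isCartan (TT D k) (XX D l k) σ g) (ha : IsRoot cs hp.isCartan a)
    {y : ↥(D.group k)} (hy : y ∈ XX D l k a) (i : ℕ) : (σ ^ i) y ∈ XX D l k (g^[i] a) := by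
  induction i with
  | zero => exact hy
  | succ i ih =>
    rw [Function.iterate_succ_apply', pow_succ']
    exact (F.map _ (root_iter hp cs F ha i) _).2 ih

/-- the character values along the orbit, `σ t = t` -/
theorem cX_iter (hσ : IsFrob p e σ) (F : Fr cs hp.isCartan (TT D k) (XX D l k) σ g) {t : ↥(D.group k)}
    (ht : t ∈ TT D k) (hfix : σ t = t) (i : ℕ) : cX hp t (g^[i] a) = cX hp t a ^ p ^ (i * e) := by
  induction i with
  | zero => simp
  | succ i ih =>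
    have h1 := cX_sigma hp cs hσ F ht (g^[i] a)
    rw [hfix] at h1
    rw [Function.iterate_succ_apply', h1, ih, ← pow_mul, ← pow_add]
    congr 2
    ring

theorem cX_iter_ne (hσ : IsFrob p e σ) (F : Fr cs hp.isCartan (TT D k) (XX D l k) σ g) {t : ↥(D.group k)}
    (ht : t ∈ TT D k) (hfix : σ t = t) (h1 : cX hp t a ≠ 1) (i : ℕ) : cX hp t (g^[i] a) ≠ 1 := by
  rw [cX_iter hp cs hσ F ht hfix]
  exact fun h => h1 (eq_one_of_pow_p p h)

include hk in
/-- fixed point free action -/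
theorem fpf (hσ : IsFrob p e σ) (F : Fr cs hp.isCartan (TT D k) (XX D l k) σ g)
    (O : Orb cs hp.isCartan D k g a m) {t : ↥(D.group k)} (ht : t ∈ TT D k) (hfix : σ t = t) {N : ℕ} (hN : 0 < N)
    (hN1 : t ^ N = 1) (h1 : cX hp t a ≠ 1) {u : ↥(D.group k)} (hu : u ∈ EE D l k g a) (hc : t * u = u * t) :
    u = 1 := by
  obtain ⟨N', hN', hcop, h2⟩ := exists_coprime_pow hp p ht hN hN1
  have h3 : nm t u N' = 1 :=
    nm_eq_one_of_sup (EE_comm hp cs O) (EE_conj hp cs hk p F O.root ht) N' rfl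
      (fun i y hy => nm_X_eq_one hp cs hk p ht (root_iter hp cs F O.root i) h2 (cX_iter_ne hp cs hσ F ht hfix h1 i) hy) hu
  rw [nm_comm hc] at h3
  have h4 := EE_pow hp cs hk p F O u hu
  have h5 : orderOf u ∣ Nat.gcd N' p := Nat.dvd_gcd (orderOf_dvd_of_pow_eq_one h3) (orderOf_dvd_of_pow_eq_one h4)
  rw [hcop.gcd_eq_one] at h5
  exact orderOf_eq_one_iff.1 (Nat.dvd_one.1 h5)

/-- elements of the torus with prescribed character values -/
theorem exists_tor {dB : ℕ} {B : Fin l → Fin l → ℤ} (hB : InvC D l dB B) (hdB : dB ≠ 0) (ζ : kˣ)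
    (f : (Fin l → ℤ) →+ ℤ) : ∃ t ∈ TT D k, ∀ x, cX hp t x = ((ζ ^ f x : kˣ) : k) := by
  let χ : Ch l k := (zpowersHom kˣ ζ).comp (AddMonoidHom.toMultiplicative f)
  obtain ⟨t, ht⟩ := tchar_surjective hp hB hdB χ
  refine ⟨t.1, t.2, fun x => ?_⟩
  rw [← tchar_eq_cX hp t.2 x]
  show ((tchar hp t (Multiplicative.ofAdd x) : kˣ) : k) = _
  rw [ht]
  rfl

/-- a primitive root of unity -/
theorem exists_zeta (p : ℕ) [Fact p.Prime] [CharP k p] {N : ℕ} (hN : 0 < N) (hcop : N.Coprime p) :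
    ∃ ζ : kˣ, orderOf ζ = N := by
  have : NeZero (N : k) := ⟨fun h => by
    have h1 := (CharP.cast_eq_zero_iff k p N).1 h
    have h2 : p ∣ 1 := by rw [← hcop.gcd_eq_one]; exact Nat.dvd_gcd h1 dvd_rfl
    exact (Fact.out : p.Prime).one_lt.ne' (Nat.dvd_one.1 h2)⟩
  have : NeZero N := ⟨hN.ne'⟩
  obtain ⟨ζ, hζ⟩ := HasEnoughRootsOfUnity.exists_primitiveRoot k N
  refine ⟨hζ.isUnit hN.ne' |>.unit, ?_⟩
  rw [← orderOf_units, IsUnit.unit_spec]
  exact hζ.eq_orderOf.symm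

include hk in
/-- **The fixed points of `σ` in the orbit group are not trivial.** -/
theorem exists_ne (he : 0 < e) (hσ : IsFrob p e σ) (F : Fr cs hp.isCartan (TT D k) (XX D l k) σ g)
    (O : Orb cs hp.isCartan D k g a m) {dB : ℕ} {B : Fin l → Fin l → ℤ} (hB : InvC D l dB B) (hdB : dB ≠ 0)
    (ψ : (Fin l → ℤ) →+ ℤ) (hψ : ψ a = 0) (hψ' : ∀ i, 0 < i → i < m → ψ (g^[i] a) ≠ 0) :
    ∃ u ∈ EE D l k g a, σ u = u ∧ u ≠ 1 := by
  obtain ⟨y, hy, hy1, hym⟩ := BpExc.HX.exists_fixed hp cs he hσ F O.root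
  have hmem : ∀ i, (σ ^ i) y ∈ EE D l k g a := fun i => Subgroup.mem_iSup_of_mem i (pow_mem_X hp cs F O.root hy i)
  have hyE : y ∈ EE D l k g a := hmem 0
  -- a prime `N` not dividing the values of `ψ`
  obtain ⟨N, hNb, hNp⟩ := Nat.exists_infinite_primes (p + 1 + ∑ i ∈ Finset.range m, (ψ (g^[i] a)).natAbs)
  have hpp : p.Prime := Fact.out
  have hNcop : N.Coprime p := by
    rw [Nat.Prime.coprime_iff_not_dvd hNp]
    intro h
    have := Nat.le_of_dvd hpp.pos h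
    omega
  obtain ⟨ζ, hζ⟩ := exists_zeta (k := k) p hNp.pos hNcop
  obtain ⟨t, ht, htχ⟩ := exists_tor hp hB hdB ζ ψ
  have htN : t ^ N = 1 := by
    refine eq_one_of_cX hp (pow_mem ht N) fun x => ?_
    rw [cX_pow hp ht, htχ, ← Units.val_pow_eq_pow_val, ← zpow_natCast, ← zpow_mul, mul_comm, zpow_mul, zpow_natCast,
      ← hζ, pow_orderOf_eq_one, one_zpow, Units.val_one]
  have hta : cX hp t a = 1 := by rw [htχ, hψ, zpow_zero, Units.val_one]
  have hti : ∀ i, 0 < i → i < m → cX hp t (g^[i] a) ≠ 1 := by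
    intro i h0 h1 h2
    rw [htχ] at h2
    have h3 : ζ ^ ψ (g^[i] a) = 1 := Units.ext h2
    have h4 : (orderOf ζ : ℤ) ∣ ψ (g^[i] a) := orderOf_dvd_iff_zpow_eq_one.2 h3
    rw [hζ] at h4
    have h5 : N ∣ (ψ (g^[i] a)).natAbs := Int.natCast_dvd.1 h4
    have h6 := Nat.le_of_dvd (Int.natAbs_pos.2 (hψ' i h0 h1)) h5
    have h7 : (ψ (g^[i] a)).natAbs ≤ ∑ i ∈ Finset.range m, (ψ (g^[i] a)).natAbs :=
      Finset.single_le_sum (f := fun i => (ψ (g^[i] a)).natAbs) (fun _ _ => Nat.zero_le _) (Finset.mem_range.2 h1)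
    omega
  refine ⟨nr σ y m, nr_mem σ fun i _ => hmem i, ?_, ?_⟩
  · exact nr_fixed σ (EE_comm hp cs O) hyE (nr_mem σ fun i _ => hmem i) (hym m O.per)
  · intro h1
    have h2 := nm_nr σ (EE_comm hp cs O) (EE_conj hp cs hk p F O.root ht) (y := y) (m := m) (N := N)
      (fun i _ => hmem i)
      (fun i h0 h1 => nm_X_eq_one hp cs hk p ht (root_iter hp cs F O.root i) htN (hti i h0 h1)
        (pow_mem_X hp cs F O.root hy i)) O.pos
    rw [h1, nm_one, nm_X_pow hp cs hk p ht O.root N hta hy] at h2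
    have h3 := X_pow_p hp cs hk p O.root hy
    have h5 : orderOf y ∣ Nat.gcd N p := Nat.dvd_gcd (orderOf_dvd_of_pow_eq_one h2.symm) (orderOf_dvd_of_pow_eq_one h3)
    rw [hNcop.gcd_eq_one] at h5
    exact hy1 (orderOf_eq_one_iff.1 (Nat.dvd_one.1 h5))

include hk in
/-- **The Frobenius subgroups.** -/
theorem frame (he : 0 < e) (hσ : IsFrob p e σ) (F : Fr cs hp.isCartan (TT D k) (XX D l k) σ g)
    (O : Orb cs hp.isCartan D k g a m) {dB : ℕ} {B : Fin l → Fin l → ℤ} (hB : InvC D l dB B) (hdB : dB ≠ 0)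
    (ψ : (Fin l → ℤ) →+ ℤ) (hψ : ψ a = 0) (hψ' : ∀ i, 0 < i → i < m → ψ (g^[i] a) ≠ 0)
    {G0 : Type*} [Group G0] [Finite G0] {e0 : G0 →* ↥(D.group k)} (he0 : Function.Injective e0)
    (hfix : ∀ x, σ (e0 x) = e0 x) {d : ℕ} (hd : ∀ y, σ y = y → y ^ d ∈ e0.range) (hpd : ¬ p ∣ d) :
    ∃ U : Subgroup G0, U ≠ ⊥ ∧ (∀ b ∈ U, b ^ p = 1) ∧ ∀ x : G0, e0 x ∈ TT D k → (∀ b ∈ U, x⁻¹ * b * x ∈ U) ∧
      ∀ i : ℕ, cX hp (e0 x) a ^ i ≠ 1 → ∀ b ∈ U, x ^ i * b = b * x ^ i → b = 1 := by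
  refine ⟨(EE D l k g a).comap e0, ?_, ?_, ?_⟩
  · obtain ⟨u, huE, huσ, hu1⟩ := exists_ne hp cs hk he hσ F O hB hdB ψ hψ hψ'
    obtain ⟨v, hv⟩ := hd u huσ
    intro h
    have h1 : v ∈ (EE D l k g a).comap e0 := by
      show e0 v ∈ EE D l k g a
      rw [hv]; exact pow_mem huE d
    rw [h, Subgroup.mem_bot] at h1
    rw [h1, map_one] at hv
    have h3 := EE_pow hp cs hk p F O u huE
    have hcop : Nat.Coprime d p := ((Nat.Prime.coprime_iff_not_dvd Fact.out).2 hpd).symm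
    have h5 : orderOf u ∣ Nat.gcd d p := Nat.dvd_gcd (orderOf_dvd_of_pow_eq_one hv.symm) (orderOf_dvd_of_pow_eq_one h3)
    rw [hcop.gcd_eq_one] at h5
    exact hu1 (orderOf_eq_one_iff.1 (Nat.dvd_one.1 h5))
  · intro b hb
    apply he0
    rw [map_pow, map_one]
    exact EE_pow hp cs hk p F O _ hb
  · intro x hx
    refine ⟨fun b hb => ?_, fun i hi b hb hc => ?_⟩
    · have h1 := EE_conj hp cs hk p F O.root (inv_mem hx) _ hb
      show e0 (x⁻¹ * b * x) ∈ EE D l k g a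
      rw [map_mul, map_mul, map_inv]
      rwa [inv_inv] at h1
    · apply he0
      rw [map_one]
      refine fpf hp cs hk hσ F O (t := e0 x ^ i) (pow_mem hx i) (by rw [map_pow, hfix]) (N := orderOf x)
        (orderOf_pos x) ?_ ?_ hb ?_
      · rw [← pow_mul, mul_comm, pow_mul, ← map_pow, pow_orderOf_eq_one, map_one, one_pow]
      · rwa [cX_pow hp hx]
      · rw [← map_pow, ← map_mul, hc, map_mul]

end Lie

end Cfsg.Agent.H414.Tw
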